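import Cfsg.Agent.Lib.G2Six.Tables
import Cfsg.Agent.Lib.Chev.Group
import Cfsg.Agent.Lib.Chev.Check.G2
import Mathlib.LinearAlgebra.SymplecticGroup

/-!
The faithful six-dimensional representation of `G₂(q)`, `q` even, inside `Sp₆(q)`.
-/

set_option autoImplicit false

namespace Cfsg.Agent.G2Six

open Cfsg.Lie Cfsg.Agent.Chev
open scoped Matrix

/-- Coordinates. -/
abbrev W : Type := Fin 3 ⊕ Fin 3

/-- Code of a coordinate. -/
def cd : W → ℕ := Sum.elim (fun i => i.val) (fun i => i.val + 3)

theorem cd_lt : ∀ a, cd a < 6 := by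
  rintro (i | i) <;> simp [cd] <;> omega

variable {F : Type*} [Field F]

/-- Cast of a table. -/
def cM6 (f : ℕ → ℕ → ℕ) : Matrix W W F := Matrix.of fun a b => (f (cd a) (cd b) : F)

theorem cM6_apply (f : ℕ → ℕ → ℕ) (a b : W) : (cM6 f : Matrix W W F) a b = (f (cd a) (cd b) : F) := rfl

theorem cM6_mul (f g : ℕ → ℕ → ℕ) : (cM6 f : Matrix W W F) * cM6 g = cM6 (mm f g) := by
  ext a b
  simp [Matrix.mul_apply, Fintype.sum_sum_type, Fin.sum_univ_three, cM6_apply, mm, cd]
  ring

theorem cM6_add (f g : ℕ → ℕ → ℕ) :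
    (cM6 f : Matrix W W F) + cM6 g = cM6 (fun a b => f a b + g a b) := by
  ext a b
  simp [cM6_apply]

variable [CharP F 2]

theorem cast_even {n : ℕ} (h : Nat.beq (n % 2) 0 = true) : (n : F) = 0 :=
  (CharP.cast_eq_zero_iff F 2 n).2 (Nat.dvd_of_mod_eq_zero (Nat.eq_of_beq_eq_true h))

theorem eq_of_even {m n : ℕ} (h : Nat.beq ((m + n) % 2) 0 = true) : (m : F) = (n : F) := by
  have := cast_even (F := F) h
  rwa [Nat.cast_add, CharTwo.add_eq_zero] at this

theorem cast_natAbs (z : ℤ) : (z : F) = (z.natAbs : F) := by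
  rcases Int.natAbs_eq z with h | h <;> conv_lhs => rw [h]
  · simp
  · simp [CharTwo.neg_eq]

/-- The image of a basis vector. -/
def Bm (x : chevG2.Idx) : Matrix W W F := cM6 (bz (code G2.pk x))

/-- The root element. -/
def Y (r : ℕ) (t : F) : Matrix W W F := ∑ k ∈ Finset.range 3, t ^ k • cM6 (yk k r)

/-- A term of the right hand side. -/
def R (r p q : ℕ) (j : chevG2.Idx) : Matrix W W F :=
  (∑ x, (cM chevG2 F (Ek chevG2 G2.pk p r)) x j • Bm x) * cM6 (yk q r)

theorem yk_ge {k : ℕ} (hk : 3 ≤ k) (r : ℕ) : (cM6 (yk k r) : Matrix W W F) = 0 := by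
  ext a b
  have : ykN k r = 0 := by
    unfold ykN
    rw [if_neg (by omega), if_neg (by omega), if_neg (by omega)]
  simp [cM6_apply, yk, bit, this]

theorem sum_bz_mul {v : V} (hv : Valid G2.pk v) (g : ℕ → ℕ → ℕ) :
    (∑ x : chevG2.Idx, ((cf v (code G2.pk x) : ℤ) : F) • Bm (F := F) x) * cM6 g =
      cM6 fun a b => (v.map fun q => q.2.natAbs * mm (bz q.1) g a b).sum := by
  induction v with
  | nil =>
    ext a b
    simp [cf_nil, cM6_apply]
  | cons p v ih =>
    obtain ⟨x0, hx0⟩ := G2.ok.exists_code (hv p (by simp))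
    simp only [cf_cons, Int.cast_add, add_smul, Finset.sum_add_distrib, add_mul,
      ih (fun q hq => hv q (by simp [hq]))]
    rw [Finset.sum_eq_single x0 (fun x _ hx => by
        rw [if_neg (fun e => hx (G2.ok.code_inj (e.symm.trans hx0.symm))), Int.cast_zero, zero_smul])
      (by simp), if_pos hx0.symm, smul_mul_assoc, Bm, hx0, cM6_mul]
    ext a b
    simp only [Matrix.add_apply, Matrix.smul_apply, cM6_apply, smul_eq_mul, List.map_cons,
      List.sum_cons, Nat.cast_add, Nat.cast_mul]
    rw [cast_natAbs]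

theorem R_eq {r p : ℕ} (hr : r < 12) (q : ℕ) (j : chevG2.Idx) :
    R (F := F) r p q j = cM6 fun a b =>
      ((G2.pk.colL p r (code G2.pk j)).map fun z => z.2.natAbs * mm (bz z.1) (yk q r) a b).sum := by
  rw [R, ← sum_bz_mul (G2.ok.valid_colL (k := p) hr (G2.ok.code_lt j))]
  rfl

/-- The degree `k` part of the right hand side. -/
def RR (r k : ℕ) (j : chevG2.Idx) : Matrix W W F :=
  ∑ p ∈ Finset.range 4, if p ≤ k then R r p (k - p) j else 0

theorem level {r k : ℕ} (hr : r < 12) (hk : k < 6) (j : chevG2.Idx) :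
    (cM6 (yk k r) : Matrix W W F) * Bm j = RR r k j := by
  have hck := ckInt_eq hr
  simp only [ckInt, List.all_eq_true, List.mem_range] at hck
  have hc := hck k hk (code G2.pk j) (G2.ok.code_lt j)
  have e : ∀ p, (if p ≤ k then R (F := F) r p (k - p) j else 0) =
      cM6 (fun a b => term p k r (code G2.pk j) a b) := by
    intro p
    by_cases hp : p ≤ k
    · rw [if_pos hp, R_eq hr]
      ext a b
      simp [cM6_apply, term, hp]
    · rw [if_neg hp]
      ext a b
      simp [cM6_apply, term, hp]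
  rw [RR, Bm, cM6_mul]
  simp only [Finset.sum_range_succ, Finset.range_zero, Finset.sum_empty, zero_add, e, cM6_add]
  ext a b
  rw [cM6_apply, cM6_apply]
  exact eq_of_even (hc _ (cd_lt a) _ (cd_lt b))

theorem intertwine {r : ℕ} (hr : r < 12) (t : F) (j : chevG2.Idx) :
    Y r t * Bm j = (∑ i, X chevG2 G2.pk r t i j • Bm i) * Y r t := by
  have eX : ∑ i, X chevG2 G2.pk r t i j • Bm (F := F) i =
      ∑ p ∈ Finset.range 4, t ^ p • ∑ x, (cM chevG2 F (Ek chevG2 G2.pk p r)) x j • Bm x := by
    simp only [X, Matrix.sum_apply, Matrix.smul_apply, Finset.sum_smul, Finset.smul_sum, smul_smul,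
      smul_eq_mul]
    exact Finset.sum_comm
  have h0 := level (F := F) hr (by norm_num : 0 < 6) j
  have h1 := level (F := F) hr (by norm_num : 1 < 6) j
  have h2 := level (F := F) hr (by norm_num : 2 < 6) j
  have h3 := level (F := F) hr (by norm_num : 3 < 6) j
  have h4 := level (F := F) hr (by norm_num : 4 < 6) j
  have h5 := level (F := F) hr (by norm_num : 5 < 6) j
  simp only [RR, Finset.sum_range_succ, Finset.range_zero, Finset.sum_empty, zero_add,
    yk_ge (le_refl 3), yk_ge (show 3 ≤ 4 by norm_num), yk_ge (show 3 ≤ 5 by norm_num), zero_mul, R,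
    mul_zero, Nat.reduceLeDiff, Nat.reduceSub, if_true, if_false, add_zero] at h0 h1 h2 h3 h4 h5
  rw [eX]
  simp only [Y, Finset.sum_range_succ, Finset.range_zero, Finset.sum_empty, zero_add, add_mul,
    mul_add, smul_mul_assoc, mul_smul_comm, h0, h1, h2]
  linear_combination (norm := module) t ^ 3 • h3 + t ^ 4 • h4 + t ^ 5 • h5

theorem Y_sq {r : ℕ} (hr : r < 12) (t : F) : Y r t * Y r t = 1 := by
  have hck := ckInv_eq
  simp only [ckInv, List.all_eq_true, List.mem_range] at hck
  have lv : ∀ k, k < 5 → (∑ p ∈ Finset.range 3,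
      (if p ≤ k then (cM6 (yk p r) : Matrix W W F) * cM6 (yk (k - p) r) else 0)) =
      if k = 0 then 1 else 0 := by
    intro k hk
    ext a b
    have h := eq_of_even (F := F) (hck r hr k hk _ (cd_lt a) _ (cd_lt b))
    rw [Matrix.sum_apply]
    have e : ((if k = 0 then 1 else 0 : Matrix W W F)) a b =
        ((if k = 0 ∧ cd a = cd b then 1 else 0 : ℕ) : F) := by
      have hinj : cd a = cd b ↔ a = b := by
        refine ⟨fun h => ?_, fun h => h ▸ rfl⟩
        rcases a with i | i <;> rcases b with j | j <;> simp [cd, Fin.val_inj] at h ⊢ <;> omega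
      by_cases h0 : k = 0 <;> by_cases hab : a = b <;> simp [h0, hab, hinj, Matrix.one_apply]
    rw [e, ← h]
    simp only [Finset.sum_range_succ, Finset.range_zero, Finset.sum_empty, zero_add, List.range_succ,
      List.range_zero, List.nil_append, List.map_append, List.map_cons, List.map_nil, List.sum_append,
      List.sum_cons, List.sum_nil, add_zero, cM6_mul]
    push_cast
    split_ifs <;> simp [cM6_apply]
  have h0 := lv 0 (by norm_num)
  have h1 := lv 1 (by norm_num)
  have h2 := lv 2 (by norm_num)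
  have h3 := lv 3 (by norm_num)
  have h4 := lv 4 (by norm_num)
  simp only [Finset.sum_range_succ, Finset.range_zero, Finset.sum_empty, zero_add,
    yk_ge (le_refl 3), yk_ge (show 3 ≤ 4 by norm_num), mul_zero, Nat.reduceLeDiff, Nat.reduceSub,
    Nat.reduceEqDiff, if_true, if_false, add_zero] at h0 h1 h2 h3 h4
  simp only [Y, Finset.sum_range_succ, Finset.range_zero, Finset.sum_empty, zero_add, add_mul,
    mul_add, smul_mul_assoc, mul_smul_comm]
  linear_combination (norm := module) h0 + t • h1 + t ^ 2 • h2 + t ^ 3 • h3 + t ^ 4 • h4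

theorem J_eq : Matrix.J (Fin 3) F = cM6 jN := by
  ext a b
  rcases a with i | i <;> rcases b with j | j <;> fin_cases i <;> fin_cases j <;>
    simp [Matrix.J, cM6_apply, jN, cd, Matrix.one_apply, CharTwo.neg_eq]

theorem ykT_eq (k r : ℕ) : (cM6 (yk k r) : Matrix W W F)ᵀ = cM6 (ykT k r) := rfl

theorem Y_form {r : ℕ} (hr : r < 12) (t : F) :
    (Y r t)ᵀ * Matrix.J (Fin 3) F * Y r t = Matrix.J (Fin 3) F := by
  rw [J_eq]
  have hck := ckForm_eq
  simp only [ckForm, List.all_eq_true, List.mem_range] at hck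
  have lv : ∀ k, k < 5 → (∑ p ∈ Finset.range 3,
      (if p ≤ k then (cM6 (ykT p r) : Matrix W W F) * cM6 jN * cM6 (yk (k - p) r) else 0)) =
      if k = 0 then cM6 jN else 0 := by
    intro k hk
    ext a b
    have h := eq_of_even (F := F) (hck r hr k hk _ (cd_lt a) _ (cd_lt b))
    rw [Matrix.sum_apply]
    have e : ((if k = 0 then cM6 jN else 0 : Matrix W W F)) a b =
        ((if k = 0 then jN (cd a) (cd b) else 0 : ℕ) : F) := by
      by_cases h0 : k = 0 <;> simp [h0, cM6_apply]
    rw [e, ← h]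
    simp only [Finset.sum_range_succ, Finset.range_zero, Finset.sum_empty, zero_add, List.range_succ,
      List.range_zero, List.nil_append, List.map_append, List.map_cons, List.map_nil, List.sum_append,
      List.sum_cons, List.sum_nil, add_zero, cM6_mul]
    push_cast
    split_ifs <;> simp [cM6_apply]
  have h0 := lv 0 (by norm_num)
  have h1 := lv 1 (by norm_num)
  have h2 := lv 2 (by norm_num)
  have h3 := lv 3 (by norm_num)
  have h4 := lv 4 (by norm_num)
  simp only [Finset.sum_range_succ, Finset.range_zero, Finset.sum_empty, zero_add,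
    yk_ge (le_refl 3), yk_ge (show 3 ≤ 4 by norm_num), mul_zero, Nat.reduceLeDiff, Nat.reduceSub,
    Nat.reduceEqDiff, if_true, if_false, add_zero] at h0 h1 h2 h3 h4
  simp only [Y, Finset.sum_range_succ, Finset.range_zero, Finset.sum_empty, zero_add,
    Matrix.transpose_add, Matrix.transpose_smul, ykT_eq, add_mul,
    mul_add, smul_mul_assoc, mul_smul_comm]
  linear_combination (norm := module) h0 + t • h1 + t ^ 2 • h2 + t ^ 3 • h3 + t ^ 4 • h4

/-! ### Independence and the centraliser -/

/-- A position where only the `i`-th image is non-zero. -/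
def isPivot (i : ℕ) (a b : W) : Bool :=
  (List.range 14).all fun i' => Nat.beq (bz i' (cd a) (cd b)) (if i' = i then 1 else 0)

theorem exists_pivot : ∀ i : Fin 14, ∃ a b : W, isPivot i.val a b = true := by decide +kernel

theorem bm_indep {c : chevG2.Idx → F} (h : ∑ x, c x • Bm (F := F) x = 0) : c = 0 := by
  funext x0
  obtain ⟨a, b, hab⟩ := exists_pivot ⟨code G2.pk x0, G2.ok.code_lt x0⟩
  simp only [isPivot, List.all_eq_true, List.mem_range] at hab
  have h1 := congrFun (congrFun h a) b
  rw [Matrix.sum_apply, Finset.sum_eq_single x0 (fun x _ hx => by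
      rw [Matrix.smul_apply, Bm, cM6_apply, Nat.eq_of_beq_eq_true (hab _ (G2.ok.code_lt x)),
        if_neg (fun e => hx (G2.ok.code_inj e)), Nat.cast_zero, smul_zero]) (by simp)] at h1
  rw [Matrix.smul_apply, Bm, cM6_apply, Nat.eq_of_beq_eq_true (hab _ (G2.ok.code_lt x0)), if_pos rfl,
    Nat.cast_one, smul_eq_mul, mul_one] at h1
  exact h1

/-- Column `b` of the `i`-th image is the unit vector at `a`. -/
def colAt (i : ℕ) (a b : W) : Bool :=
  (List.range 6).all fun m => Nat.beq (bz i m (cd b)) (if m = cd a then 1 else 0)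

/-- Row `a` of the `i`-th image is the unit vector at `b`. -/
def rowAt (i : ℕ) (a b : W) : Bool :=
  (List.range 6).all fun m => Nat.beq (bz i (cd a) m) (if m = cd b then 1 else 0)

/-- Row `a` of the `i`-th image vanishes. -/
def rowZero (i : ℕ) (a : W) : Bool :=
  (List.range 6).all fun m => Nat.beq (bz i (cd a) m) 0

theorem exists_sep : ∀ u a : W, u ≠ a →
    ∃ (i : Fin 14) (b : W), colAt i.val a b = true ∧ rowZero i.val u = true := by decide +kernel

theorem exists_link : ∀ u : W, ∃ (i : Fin 14) (v : W), colAt i.val u v = true ∧ rowAt i.val u v = true ∧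
    (v = Sum.inl 0 ∨ ∃ (j : Fin 14) (w : W), colAt j.val v w = true ∧ rowAt j.val v w = true ∧
      (w = Sum.inl 0 ∨ ∃ (k : Fin 14), colAt k.val w (Sum.inl 0) = true ∧ rowAt k.val w (Sum.inl 0) = true)) := by
  decide +kernel

omit [CharP F 2] in
theorem cd_inj {a b : W} (h : cd a = cd b) : a = b := by
  rcases a with i | i <;> rcases b with j | j <;> simp [cd, Fin.val_inj] at h ⊢ <;> omega

omit [CharP F 2] in
theorem eq_scalar {M : Matrix W W F} (hM : ∀ x, M * Bm x = Bm x * M) :
    M = (M (Sum.inl 0) (Sum.inl 0)) • 1 := by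
  have hcol : ∀ (i : Fin 14) (a b u : W), colAt i.val a b = true →
      ∃ x, code G2.pk x = i.val ∧ (M * Bm x : Matrix W W F) u b = M u a := by
    intro i a b u h
    obtain ⟨x, hx⟩ := G2.ok.exists_code (c := i.val) (by exact i.isLt)
    simp only [colAt, List.all_eq_true, List.mem_range] at h
    refine ⟨x, hx, ?_⟩
    rw [Matrix.mul_apply, Finset.sum_eq_single a (fun m _ hm => by
        rw [Bm, cM6_apply, hx, Nat.eq_of_beq_eq_true (h _ (cd_lt m)), if_neg (fun e => hm (cd_inj e)),
          Nat.cast_zero, mul_zero]) (by simp), Bm, cM6_apply, hx, Nat.eq_of_beq_eq_true (h _ (cd_lt a)),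
      if_pos rfl, Nat.cast_one, mul_one]
  have sep : ∀ u a : W, u ≠ a → M u a = 0 := by
    intro u a hne
    obtain ⟨i, b, hc, hz⟩ := exists_sep u a hne
    obtain ⟨x, hx, e⟩ := hcol i a b u hc
    rw [← e, hM, Matrix.mul_apply]
    simp only [rowZero, List.all_eq_true, List.mem_range] at hz
    exact Finset.sum_eq_zero fun m _ => by
      rw [Bm, cM6_apply, hx, Nat.eq_of_beq_eq_true (hz _ (cd_lt m)), Nat.cast_zero, zero_mul]
  have link : ∀ (i : Fin 14) (u v : W), colAt i.val u v = true → rowAt i.val u v = true → M u u = M v v := by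
    intro i u v hc hr
    obtain ⟨x, hx, e⟩ := hcol i u v u hc
    rw [← e, hM, Matrix.mul_apply]
    simp only [rowAt, List.all_eq_true, List.mem_range] at hr
    rw [Finset.sum_eq_single v (fun m _ hm => by
        rw [Bm, cM6_apply, hx, Nat.eq_of_beq_eq_true (hr _ (cd_lt m)), if_neg (fun e => hm (cd_inj e)),
          Nat.cast_zero, zero_mul]) (by simp), Bm, cM6_apply, hx, Nat.eq_of_beq_eq_true (hr _ (cd_lt v)),
      if_pos rfl, Nat.cast_one, one_mul]
  ext u v
  by_cases huv : u = v
  · subst huv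
    rw [Matrix.smul_apply, Matrix.one_apply_eq, smul_eq_mul, mul_one]
    obtain ⟨i, v, h1, h2, h⟩ := exists_link u
    rw [link i u v h1 h2]
    rcases h with rfl | ⟨j, w, h3, h4, h⟩
    · rfl
    rw [link j v w h3 h4]
    rcases h with rfl | ⟨k, h5, h6⟩
    · rfl
    exact link k w _ h5 h6
  · rw [Matrix.smul_apply, Matrix.one_apply_ne huv, smul_zero, sep u v huv]

/-! ### The representation -/

/-- The root element as a unit. -/
def yu {r : ℕ} (hr : r < 12) (t : F) : GL W F := ⟨Y r t, Y r t, Y_sq hr t, Y_sq hr t⟩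

variable (F) in
/-- Pairs of corresponding root elements. -/
def pairSet : Set (GL W F × GL chevG2.Idx F) :=
  {p | ∃ (r : ℕ) (hr : r < 12) (t : F), p = (yu hr t, G2.ok.xG r t)}

variable (F) in
/-- Their group. -/
def pairG : Subgroup (GL W F × GL chevG2.Idx F) := Subgroup.closure (pairSet F)

/-- The intertwining property. -/
def Rel (M : Matrix W W F) (A : Matrix chevG2.Idx chevG2.Idx F) : Prop :=
  ∀ j, M * Bm j = (∑ i, A i j • Bm i) * M

theorem rel_mul {M N : Matrix W W F} {A A' : Matrix chevG2.Idx chevG2.Idx F} (h : Rel M A)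
    (h' : Rel N A') : Rel (M * N) (A * A') := by
  intro j
  rw [mul_assoc, h' j, ← mul_assoc, ← mul_assoc]
  congr 1
  simp only [Finset.mul_sum, Finset.sum_mul, mul_smul_comm, smul_mul_assoc, h _, Finset.smul_sum,
    smul_smul, Matrix.mul_apply, Finset.sum_smul]
  rw [Finset.sum_comm]
  exact Finset.sum_congr rfl fun x _ => Finset.sum_congr rfl fun y _ => by rw [mul_comm]

theorem pairSet_inv {p : GL W F × GL chevG2.Idx F} (hp : p ∈ pairSet F) : p⁻¹ = p := by
  obtain ⟨r, hr, t, rfl⟩ := hp
  refine Prod.ext (inv_eq_of_mul_eq_one_right (Units.ext (Y_sq hr t))) ?_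
  show (G2.ok.xG r t)⁻¹ = _
  rw [G2.ok.xG_inv, CharTwo.neg_eq]

theorem pairG_spec {p : GL W F × GL chevG2.Idx F} (hp : p ∈ pairG F) :
    Rel (p.1 : Matrix W W F) (p.2 : Matrix chevG2.Idx chevG2.Idx F) ∧
      (p.1 : Matrix W W F) ∈ Matrix.symplecticGroup (Fin 3) F := by
  have gen : ∀ p ∈ pairSet F, Rel (p.1 : Matrix W W F) (p.2 : Matrix chevG2.Idx chevG2.Idx F) ∧
      (p.1 : Matrix W W F) ∈ Matrix.symplecticGroup (Fin 3) F := by
    rintro p ⟨r, hr, t, rfl⟩
    refine ⟨fun j => ?_, SymplecticGroup.mem_iff'.2 (Y_form hr t)⟩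
    show Y r t * Bm j = _
    rw [G2.ok.coe_xG' hr]
    exact intertwine hr t j
  induction hp using Subgroup.closure_induction'' with
  | mem x hx => exact gen x hx
  | inv_mem x hx => rw [pairSet_inv hx]; exact gen x hx
  | one =>
    exact ⟨fun j => by simp [Matrix.one_apply, ite_smul], one_mem _⟩
  | mul a b _ _ ha hb =>
    exact ⟨rel_mul ha.1 hb.1, mul_mem ha.2 hb.2⟩

theorem pairG_injective {p : GL W F × GL chevG2.Idx F} (hp : p ∈ pairG F) :
    (p.1 = 1 → p.2 = 1) ∧ (p.2 = 1 → p.1 = 1) := by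
  obtain ⟨hrel, hsp⟩ := pairG_spec hp
  refine ⟨fun h => Units.ext ?_, fun h => Units.ext ?_⟩
  · ext i j
    have e := hrel j
    rw [h, Units.val_one, one_mul, mul_one] at e
    have := bm_indep (F := F) (c := fun i => (p.2 : Matrix chevG2.Idx chevG2.Idx F) i j - (1 : Matrix chevG2.Idx chevG2.Idx F) i j) (by
      simp only [sub_smul, Finset.sum_sub_distrib, ← e]
      simp [Matrix.one_apply, ite_smul])
    exact sub_eq_zero.1 (congrFun this i)
  · have e : ∀ x, (p.1 : Matrix W W F) * Bm x = Bm x * (p.1 : Matrix W W F) := fun x => by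
      rw [hrel x, h]
      simp [Matrix.one_apply, ite_smul]
    have hs := eq_scalar e
    generalize (p.1 : Matrix W W F) (Sum.inl 0) (Sum.inl 0) = c at hs
    rw [hs, SymplecticGroup.mem_iff'] at hsp
    have h1 := congrFun (congrFun hsp (Sum.inl 0)) (Sum.inr 0)
    simp [Matrix.J, CharTwo.neg_eq] at h1
    have : (c + 1) ^ 2 = 0 := by
      rw [CharTwo.add_sq, pow_two, h1, one_pow, CharTwo.add_self_eq_zero]
    rw [hs, CharTwo.add_eq_zero.1 (pow_eq_zero_iff two_ne_zero |>.1 this), one_smul]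
    rfl

/-- The faithful six-dimensional symplectic representation of `G₂` in characteristic two. -/
theorem exists_rep : ∃ π : ↥(chevG2.group F) →* GL W F, Function.Injective π ∧
    ∀ g, (π g : Matrix W W F) ∈ Matrix.symplecticGroup (Fin 3) F := by
  let ψ : ↥(pairG F) →* GL chevG2.Idx F := (MonoidHom.snd _ _).comp (pairG F).subtype
  have hinj : Function.Injective ψ := (injective_iff_map_eq_one ψ).2 fun p hp =>
    Subtype.ext (Prod.ext ((pairG_injective p.2).2 hp) hp)
  have hrange : chevG2.group F ≤ ψ.range := by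
    rw [ChevalleyDatum.group, Subgroup.closure_le]
    rintro g ⟨r, t, hg⟩
    refine ⟨⟨_, Subgroup.subset_closure ⟨r.val, r.isLt, t, rfl⟩⟩, ?_⟩
    show G2.ok.xG r.val t = g
    apply Units.ext
    rw [G2.ok.coe_xG, hg, ChevalleyDatum.x, dif_pos r.isLt]
  let e := MonoidHom.ofInjective hinj
  let π : ↥(chevG2.group F) →* GL W F :=
    (((MonoidHom.fst _ _).comp (pairG F).subtype).comp e.symm.toMonoidHom).comp
      (Subgroup.inclusion hrange)
  refine ⟨π, (injective_iff_map_eq_one π).2 fun g hg => ?_,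
    fun g => (pairG_spec (e.symm (Subgroup.inclusion hrange g)).2).2⟩
  have h2 : (e (e.symm (Subgroup.inclusion hrange g)) : GL chevG2.Idx F) = g.1 := by
    rw [MulEquiv.apply_symm_apply]; rfl
  exact Subtype.ext (h2.symm.trans ((pairG_injective (e.symm (Subgroup.inclusion hrange g)).2).1 hg))

end Cfsg.Agent.G2Six
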