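import Cfsg.Agent.Lib.Chev.Data.G2
import Cfsg.Agent.Lib.Chev.Engine

/-!
The six-dimensional representation of the Chevalley data of type `G₂` in characteristic two:
tables and finite checks.
-/

set_option autoImplicit false

namespace Cfsg.Agent.G2Six

open Cfsg.Agent.Chev

/-- Entry of a bit-packed `6 × 6` matrix. -/
def bit (N a b : ℕ) : ℕ := (N / 2 ^ (6 * a + b)) % 2

/-- The images of the fourteen basis vectors. -/
def bzN (i : ℕ) : ℕ :=
  [17301504, 1074790400, 2214592512, 8392704, 4194368, 536879104, 17179869440, 134217730,
    8589934596, 67584, 32800, 528, 270532737, 34628190336].getD i 0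

/-- The coefficients of the root elements. -/
def ykN (k r : ℕ) : ℕ :=
  if k = 0 then 34630287489 else if k = 1 then
    [17301504, 1074790400, 2214592512, 8392704, 4194368, 536879104, 17179869440, 134217730,
      8589934596, 67584, 32800, 528].getD r 0
  else if k = 2 then
    [0, 0, 262144, 33554432, 4294967296, 0, 0, 131072, 1024, 8, 0, 0].getD r 0
  else 0

/-- The coordinates in negative position. -/
def jN (a b : ℕ) : ℕ := if (a + 3) % 6 = b then 1 else 0

/-- Entry of `bzN`. -/
def bz (i a b : ℕ) : ℕ := bit (bzN i) a b

/-- Entry of `ykN`. -/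
def yk (k r a b : ℕ) : ℕ := bit (ykN k r) a b

/-- Product entry. -/
def mm (f g : ℕ → ℕ → ℕ) (a b : ℕ) : ℕ :=
  f a 0 * g 0 b + f a 1 * g 1 b + f a 2 * g 2 b + f a 3 * g 3 b + f a 4 * g 4 b + f a 5 * g 5 b

/-- The right hand side of the intertwining relation in degree `k`, one term. -/
def term (p k r j a b : ℕ) : ℕ :=
  if p ≤ k then
    ((G2.pk.colL p r j).map fun q => q.2.natAbs * mm (bz q.1) (yk (k - p) r) a b).sum
  else 0

/-- The intertwining relation modulo two. -/
def ckInt (r : ℕ) : Bool :=
  (List.range 6).all fun k => (List.range 14).all fun j =>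
    (List.range 6).all fun a => (List.range 6).all fun b =>
      Nat.beq ((mm (yk k r) (bz j) a b + (term 0 k r j a b + term 1 k r j a b + term 2 k r j a b +
        term 3 k r j a b)) % 2) 0

/-- Transposed table. -/
def ykT (k r a b : ℕ) : ℕ := yk k r b a

/-- The root elements preserve the form, modulo two. -/
def ckForm : Bool :=
  (List.range 12).all fun r => (List.range 5).all fun k =>
    (List.range 6).all fun a => (List.range 6).all fun b =>
      Nat.beq (((((List.range 3).map fun p =>
        if p ≤ k then mm (mm (ykT p r) jN) (yk (k - p) r) a b else 0).sum) +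
          if k = 0 then jN a b else 0) % 2) 0

/-- The root elements are involutions, modulo two. -/
def ckInv : Bool :=
  (List.range 12).all fun r => (List.range 5).all fun k =>
    (List.range 6).all fun a => (List.range 6).all fun b =>
      Nat.beq (((((List.range 3).map fun p =>
        if p ≤ k then mm (yk p r) (yk (k - p) r) a b else 0).sum) +
          if k = 0 ∧ a = b then 1 else 0) % 2) 0

theorem ckForm_eq : ckForm = true := by decide +kernel

theorem ckInv_eq : ckInv = true := by decide +kernel

theorem ckInt_eq_low : ((List.range 6).all ckInt) = true := by decide +kernel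

theorem ckInt_eq_high : ((List.range' 6 6).all ckInt) = true := by decide +kernel

theorem ckInt_eq {r : ℕ} (hr : r < 12) : ckInt r = true := by
  rcases lt_or_ge r 6 with h | h
  · exact List.all_eq_true.1 ckInt_eq_low r (List.mem_range.2 h)
  · exact List.all_eq_true.1 ckInt_eq_high r (List.mem_range'_1.2 ⟨h, by omega⟩)

end Cfsg.Agent.G2Six
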